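import Groth.Agent.ResProp.EF.X56.NF

/-!
# Maps of presheaves of modules on a groupoid ring from their value on the chart

`E`, `M : PM A`, `E` cartesian, `f₀ : E⟨0⟩ → M⟨0⟩` linear with `pl (pr ⟨0⟩) f₀ = pl (lst ⟨0⟩) f₀` extends uniquely to a natural
family of linear maps (`fam`).  `endPM hE M`: the presheaf of modules `a ↦ Hom (E⟨a⟩, M⟨a⟩)`.
-/

set_option autoImplicit false
set_option linter.dupNamespace false

open CategoryTheory Opposite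

namespace Groth.Agent.ResProp.EF.K322

open K784.BC K784.PM K784.PM.PM K741.RP EF56

universe w₃ w₂ w₁ w u

variable {A : NFᵒᵖ ⥤ CommRingCat.{u}} {E : PM.{w₁} A} {M : PM.{w₂} A}

theorem pt_zero : pt ⟨0⟩ 0 = 𝟙 (⟨0⟩ : NF) := by
  funext i
  exact Subsingleton.elim (α := Fin 1) _ _

theorem comp_pt {a b : NF} (φ : a ⟶ b) (i : Fin (b.n + 1)) :
    φ ≫ pt b i = pt a ((show Fin (b.n + 1) → Fin (a.n + 1) from φ) i) := rfl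

theorem pr_zero : pr ⟨0⟩ = pt ⟨1⟩ 0 := by
  funext i
  have : i = 0 := Subsingleton.elim (α := Fin 1) _ _
  subst this
  rfl

theorem lst_zero : lst ⟨0⟩ = pt ⟨1⟩ 1 := by
  funext i
  rfl

/-- the edge `(i, j)` -/
def edg (a : NF) (i j : Fin (a.n + 1)) : a ⟶ (⟨0 + 1⟩ : NF) := lft (pt a i) (pt a j)

theorem edg_pr (a : NF) (i j : Fin (a.n + 1)) : edg a i j ≫ pr ⟨0⟩ = pt a i := lft_pr _ _

theorem edg_lst (a : NF) (i j : Fin (a.n + 1)) : edg a i j ≫ lst ⟨0⟩ = pt a j := lft_lst _ _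

/-- the compatibility on `⟨1⟩` -/
def Compat (hE : E.Cart) (f₀ : E.obj ⟨0⟩ →ₗ[A.obj (op ⟨0⟩)] M.obj ⟨0⟩) : Prop :=
  pl (M := M) hE (pr ⟨0⟩) f₀ = pl (M := M) hE (lst ⟨0⟩) f₀

/-- it is enough to test one map on `⟨1⟩` -/
theorem compat_of (hE : E.Cart) (f₀ : E.obj ⟨0⟩ →ₗ[A.obj (op ⟨0⟩)] M.obj ⟨0⟩)
    (f₁ : E.obj ⟨1⟩ →ₗ[A.obj (op ⟨1⟩)] M.obj ⟨1⟩) (h0 : ∀ e, f₁ (E.map (pr ⟨0⟩) e) = M.map (pr ⟨0⟩) (f₀ e))
    (h1 : ∀ e, f₁ (E.map (lst ⟨0⟩) e) = M.map (lst ⟨0⟩) (f₀ e)) : Compat (M := M) hE f₀ :=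
  (eq_pl (M := M) hE (pr ⟨0⟩) f₀ h0).symm.trans (eq_pl (M := M) hE (lst ⟨0⟩) f₀ h1)

theorem pl_pt_eq (hE : E.Cart) {f₀ : E.obj ⟨0⟩ →ₗ[A.obj (op ⟨0⟩)] M.obj ⟨0⟩} (h : Compat (M := M) hE f₀) (a : NF)
    (i j : Fin (a.n + 1)) : pl (M := M) hE (pt a i) f₀ = pl (M := M) hE (pt a j) f₀ := by
  rw [← edg_pr a i j, pl_comp, h, ← pl_comp, edg_lst]

/-- the family -/
noncomputable def fam (hE : E.Cart) (f₀ : E.obj ⟨0⟩ →ₗ[A.obj (op ⟨0⟩)] M.obj ⟨0⟩) (a : NF) :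
    E.obj a →ₗ[A.obj (op a)] M.obj a := pl (M := M) hE (pt a 0) f₀

theorem fam_zero (hE : E.Cart) (f₀ : E.obj ⟨0⟩ →ₗ[A.obj (op ⟨0⟩)] M.obj ⟨0⟩) : fam (M := M) hE f₀ ⟨0⟩ = f₀ := by
  rw [fam]
  have : (pt ⟨0⟩ 0 : (⟨0⟩ : NF) ⟶ ⟨0⟩) = 𝟙 _ := pt_zero
  exact (congrArg (fun φ => pl (M := M) hE φ f₀) this).trans (pl_id hE _ f₀)

theorem fam_eq (hE : E.Cart) {f₀ : E.obj ⟨0⟩ →ₗ[A.obj (op ⟨0⟩)] M.obj ⟨0⟩} (h : Compat (M := M) hE f₀) (a : NF)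
    (i : Fin (a.n + 1)) : fam (M := M) hE f₀ a = pl (M := M) hE (pt a i) f₀ := pl_pt_eq hE h a 0 i

theorem fam_pt (hE : E.Cart) {f₀ : E.obj ⟨0⟩ →ₗ[A.obj (op ⟨0⟩)] M.obj ⟨0⟩} (h : Compat (M := M) hE f₀) (a : NF)
    (i : Fin (a.n + 1)) (e : E.obj ⟨0⟩) : fam (M := M) hE f₀ a (E.map (pt a i) e) = M.map (pt a i) (f₀ e) := by
  rw [fam_eq hE h a i, pl_apply]

theorem fam_map (hE : E.Cart) {f₀ : E.obj ⟨0⟩ →ₗ[A.obj (op ⟨0⟩)] M.obj ⟨0⟩} (h : Compat (M := M) hE f₀) {a b : NF}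
    (φ : a ⟶ b) (e : E.obj b) : fam (M := M) hE f₀ a (E.map φ e) = M.map φ (fam (M := M) hE f₀ b e) := by
  rw [← pl_apply hE φ (fam (M := M) hE f₀ b) e]
  congr 1
  rw [fam_eq hE h a ((show Fin (b.n + 1) → Fin (a.n + 1) from φ) 0), ← comp_pt, pl_comp]
  rfl

/-- a natural family is determined by its value on the chart -/
theorem fam_unique (hE : E.Cart) (f : ∀ a : NF, E.obj a →ₗ[A.obj (op a)] M.obj a)
    (hf : ∀ (a : NF) (e : E.obj ⟨0⟩), f a (E.map (pt a 0) e) = M.map (pt a 0) (f ⟨0⟩ e)) (a : NF) :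
    f a = fam (M := M) hE (f ⟨0⟩) a := eq_pl (M := M) hE (pt a 0) (f ⟨0⟩) (hf a)

/-- two linear maps on `E⟨a⟩` are equal if they agree on the chart -/
theorem ext_pt (hE : E.Cart) {a : NF} {N : Type w₃} [AddCommGroup N] [Module (A.obj (op a)) N] (i : Fin (a.n + 1))
    {g₁ g₂ : E.obj a →ₗ[A.obj (op a)] N} (h : ∀ e, g₁ (E.map (pt a i) e) = g₂ (E.map (pt a i) e)) : g₁ = g₂ :=
  (hE (pt a i)).hom_ext h

/-- a natural family is compatible on the chart -/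
theorem compat_of_nat (hE : E.Cart) (f : ∀ a : NF, E.obj a →ₗ[A.obj (op a)] M.obj a)
    (hf : ∀ {a b : NF} (φ : a ⟶ b) (e : E.obj b), f a (E.map φ e) = M.map φ (f b e)) :
    Compat (M := M) hE (f ⟨0⟩) :=
  compat_of hE (f ⟨0⟩) (f ⟨1⟩) (fun e => hf _ e) fun e => hf _ e

variable (M) in
/-- the presheaf of modules `a ↦ Hom (E⟨a⟩, M⟨a⟩)` -/
noncomputable def homPM (hE : E.Cart) : PM.{max w₁ w₂} A where
  obj a := E.obj a →ₗ[A.obj (op a)] M.obj a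
  map φ := pl (M := M) hE φ
  map_smul φ r h := pl_smul hE φ r h
  map_id z h := pl_id hE z h
  map_comp ψ φ h := pl_comp hE ψ φ h

end Groth.Agent.ResProp.EF.K322
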