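import Groth.Agent.ResProp.EF.Arch
import Groth.Agent.ResProp.EF.K322.Fam

/-!
# `SObj`, `SObj.Hom`, `Pure` from the chart

`tenO M O : PM A`, `a ↦ M⟨a⟩ ⊗ O`; an `E`-coaction on `M⟨0⟩` which is `A⟨0⟩`-linear and commutes with the `Γ`-coaction is
an `ECo`; morphisms and pure objects from the chart.
-/

set_option autoImplicit false
set_option linter.dupNamespace false

open CategoryTheory Opposite TensorProduct

noncomputable section

namespace Groth.Agent.ResProp.EF.K322

open K784.BC K784.PM K784.PM.PM K741.RP EF56 Grp Arch

universe w₃ w₂ w₁ w u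

variable {k : Type u} [CommRing k] {A : NFᵒᵖ ⥤ CommRingCat.{u}} [GRF k A]

theorem mulk_apply (M : PM.{u} A) (a : NF) (r : A.obj (op a)) (m : M.obj a) : mulk (k := k) M a r m = r • m := rfl

theorem mapk_apply (M : PM.{u} A) {a b : NF} (φ : a ⟶ b) (m : M.obj b) : mapk (k := k) M φ m = M.map φ m := rfl

variable (k) in
/-- `a ↦ M⟨a⟩ ⊗ O` -/
def tenO (M : PM.{u} A) (O : Type u) [AddCommGroup O] [Module k O] : PM.{u} A where
  obj a := M.obj a ⊗[k] O
  map φ := ((mapk (k := k) M φ).rTensor O).toAddMonoidHom
  map_smul φ r z := by
    change (mapk (k := k) M φ).rTensor O (r • z) = rg A φ r • (mapk (k := k) M φ).rTensor O z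
    induction z with
    | zero => simp
    | tmul m o =>
      rw [TensorProduct.smul_tmul', LinearMap.rTensor_tmul, LinearMap.rTensor_tmul, TensorProduct.smul_tmul']
      exact congrArg (· ⊗ₜ[k] o) (M.map_smul φ r m)
    | add x y hx hy => rw [smul_add, map_add, hx, hy, map_add, smul_add]
  map_id z x := by
    change (mapk (k := k) M (𝟙 z)).rTensor O x = x
    induction x with
    | zero => simp
    | tmul m o =>
      rw [LinearMap.rTensor_tmul]
      exact congrArg (· ⊗ₜ[k] o) (M.map_id z m)
    | add x y hx hy => rw [map_add, hx, hy]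
  map_comp ψ φ x := by
    change (mapk (k := k) M (ψ ≫ φ)).rTensor O x = (mapk (k := k) M ψ).rTensor O ((mapk (k := k) M φ).rTensor O x)
    induction x with
    | zero => simp
    | tmul m o =>
      rw [LinearMap.rTensor_tmul, LinearMap.rTensor_tmul, LinearMap.rTensor_tmul]
      exact congrArg (· ⊗ₜ[k] o) (M.map_comp ψ φ m)
    | add x y hx hy => rw [map_add, hx, hy, map_add, map_add]

section

variable {O : Type u} [AddCommGroup O] [Module k O]

theorem smul_tenO (M : PM.{u} A) (a : NF) (r : A.obj (op a)) (z : M.obj a ⊗[k] O) :
    (mulk (k := k) M a r).rTensor O z = r • z := by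
  induction z with
  | zero => simp
  | tmul m o =>
    rw [TensorProduct.smul_tmul', LinearMap.rTensor_tmul]
    rfl
  | add x y hx hy => rw [map_add, hx, hy, smul_add]

/-- a `k`-linear map `M⟨a⟩ → N⟨a⟩` which is `A⟨a⟩`-linear gives an `A⟨a⟩`-linear map after `⊗ O` -/
def rT {X Y : Type u} {a : NF} [AddCommGroup X] [Module (A.obj (op a)) X] [Module k X]
    [IsScalarTower k (A.obj (op a)) X] [AddCommGroup Y] [Module (A.obj (op a)) Y] [Module k Y]
    [IsScalarTower k (A.obj (op a)) Y] (O : Type u) [AddCommGroup O] [Module k O]
    (f : X →ₗ[A.obj (op a)] Y) : X ⊗[k] O →ₗ[A.obj (op a)] Y ⊗[k] O :=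
  { (f.restrictScalars k).rTensor O with
    map_smul' := fun r z => by
      change (f.restrictScalars k).rTensor O (r • z) = r • (f.restrictScalars k).rTensor O z
      induction z with
      | zero => simp
      | tmul m o =>
        rw [TensorProduct.smul_tmul', LinearMap.rTensor_tmul, LinearMap.rTensor_tmul, TensorProduct.smul_tmul']
        exact congrArg (· ⊗ₜ[k] o) (f.map_smul r m)
      | add x y hx hy => rw [smul_add, map_add, hx, hy, map_add, smul_add] }

end

/-- the `A⟨0⟩`-linear form of a coaction on the chart -/
def lin₀ {E : Gp k} {M : PM.{u} A} {a : NF} (c : HopfRep.Comod k E.O (M.obj a))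
    (lin : ∀ (r : A.obj (op a)) (m : M.obj a), c.coact (r • m) = (mulk (k := k) M a r).rTensor E.O (c.coact m)) :
    M.obj a →ₗ[A.obj (op a)] (tenO k M E.O).obj a :=
  { c.coact with
    map_smul' := fun r m => (lin r m).trans (smul_tenO M a r _) }

theorem comod_ext {O V : Type u} [AddCommGroup O] [Module k O] [Coalgebra k O] [AddCommGroup V] [Module k V]
    {c c' : HopfRep.Comod k O V} (h : ∀ v, c.coact v = c'.coact v) : c = c' := by
  cases c
  cases c'
  congr
  exact LinearMap.ext h

section Eco

variable {E : Gp k} {M : PM.{u} A} (hM : M.Cart) (c₀ : HopfRep.Comod k E.O (M.obj ⟨0⟩))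
  (lin : ∀ (r : A.obj (op ⟨0⟩)) (m : M.obj ⟨0⟩),
    c₀.coact (r • m) = (mulk (k := k) M ⟨0⟩ r).rTensor E.O (c₀.coact m))

/-- the coaction on `M⟨a⟩` -/
def coA (a : NF) : M.obj a →ₗ[k] M.obj a ⊗[k] E.O :=
  { fam (M := tenO k M E.O) hM (lin₀ c₀ lin) a with
    map_smul' := fun r m => by
      change fam (M := tenO k M E.O) hM (lin₀ c₀ lin) a (r • m) =
        r • (fam (M := tenO k M E.O) hM (lin₀ c₀ lin) a m : M.obj a ⊗[k] E.O)
      rw [pmk_smul, _root_.map_smul]
      exact algebraMap_smul (A.obj (op a)) r (_ : M.obj a ⊗[k] E.O) }

theorem coA_smul (a : NF) (r : A.obj (op a)) (m : M.obj a) :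
    coA hM c₀ lin a (r • m) = r • coA hM c₀ lin a m :=
  (fam (M := tenO k M E.O) hM (lin₀ c₀ lin) a).map_smul r m

theorem coA_zero (m : M.obj ⟨0⟩) : coA hM c₀ lin ⟨0⟩ m = c₀.coact m :=
  LinearMap.congr_fun (fam_zero (M := tenO k M E.O) hM (lin₀ c₀ lin)) m

variable (hc : Compat (M := tenO k M E.O) hM (lin₀ c₀ lin))

include hc

theorem coA_map {a b : NF} (φ : a ⟶ b) (m : M.obj b) :
    coA hM c₀ lin a (M.map φ m) = (mapk (k := k) M φ).rTensor E.O (coA hM c₀ lin b m) :=
  fam_map (M := tenO k M E.O) hM hc φ m

theorem coA_pt (a : NF) (i : Fin (a.n + 1)) (m : M.obj ⟨0⟩) :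
    coA hM c₀ lin a (M.map (pt a i) m) = (mapk (k := k) M (pt a i)).rTensor E.O (c₀.coact m) := by
  rw [coA_map hM c₀ lin hc, coA_zero]

/-- **an `ECo` from the chart** -/
def eco : ECo E M where
  co a :=
    { coact := coA hM c₀ lin a
      coassoc := by
        refine LinearMap.ext fun m => ?_
        change TensorProduct.assoc k _ _ _ ((coA hM c₀ lin a).rTensor E.O (coA hM c₀ lin a m)) =
          (CoalgebraStruct.comul (R := k) (A := E.O)).lTensor (M.obj a) (coA hM c₀ lin a m)
        have hsm : ∀ (r : A.obj (op a)) (z : M.obj a ⊗[k] E.O),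
            (coA hM c₀ lin a).rTensor E.O (r • z) = r • (coA hM c₀ lin a).rTensor E.O z := by
          intro r z
          induction z with
          | zero => simp
          | tmul m o =>
            rw [TensorProduct.smul_tmul', LinearMap.rTensor_tmul, LinearMap.rTensor_tmul, coA_smul,
              TensorProduct.smul_tmul']
          | add x y hx hy => rw [smul_add, map_add, hx, hy, map_add, smul_add]
        have has : ∀ (r : A.obj (op a)) (z : (M.obj a ⊗[k] E.O) ⊗[k] E.O),
            TensorProduct.assoc k _ _ _ (r • z) = r • TensorProduct.assoc k (M.obj a) E.O E.O z := by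
          intro r z
          induction z with
          | zero => simp
          | tmul z o =>
            induction z with
            | zero => simp
            | tmul m o' => rfl
            | add x y hx hy => rw [TensorProduct.add_tmul, smul_add, map_add, hx, hy, map_add, smul_add]
          | add x y hx hy => rw [smul_add, map_add, hx, hy, map_add, smul_add]
        have hcm : ∀ (r : A.obj (op a)) (z : M.obj a ⊗[k] E.O),
            (CoalgebraStruct.comul (R := k) (A := E.O)).lTensor (M.obj a) (r • z) =
              r • (CoalgebraStruct.comul (R := k) (A := E.O)).lTensor (M.obj a) z := by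
          intro r z
          induction z with
          | zero => simp
          | tmul m o => rfl
          | add x y hx hy => rw [smul_add, map_add, hx, hy, map_add, smul_add]
        induction m using (hM (pt a 0)).induction with
        | zero => simp
        | add x y hx hy => rw [map_add, map_add, map_add, hx, hy, map_add]
        | smul r m hm => rw [coA_smul, hsm, has, hm, hcm]
        | map m =>
          rw [coA_pt hM c₀ lin hc]
          have h1 : (coA hM c₀ lin a).rTensor E.O ∘ₗ (mapk (k := k) M (pt a 0)).rTensor E.O =
              ((mapk (k := k) M (pt a 0)).rTensor E.O).rTensor E.O ∘ₗ c₀.coact.rTensor E.O := by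
            rw [← LinearMap.rTensor_comp, ← LinearMap.rTensor_comp]
            congr 1
            exact LinearMap.ext fun m => coA_pt hM c₀ lin hc a 0 m
          have h2 : ∀ z : (M.obj ⟨0⟩ ⊗[k] E.O) ⊗[k] E.O,
              TensorProduct.assoc k _ _ _ (((mapk (k := k) M (pt a 0)).rTensor E.O).rTensor E.O z) =
                (mapk (k := k) M (pt a 0)).rTensor (E.O ⊗[k] E.O) (TensorProduct.assoc k _ _ _ z) := by
            intro z
            induction z with
            | zero => simp
            | tmul z o =>
              induction z with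
              | zero => simp
              | tmul m o' => rfl
              | add x y hx hy => rw [TensorProduct.add_tmul, map_add, map_add, hx, hy, map_add, map_add]
            | add x y hx hy => rw [map_add, map_add, hx, hy, map_add, map_add]
          have h3 : ∀ z : M.obj ⟨0⟩ ⊗[k] E.O,
              (CoalgebraStruct.comul (R := k) (A := E.O)).lTensor (M.obj a)
                ((mapk (k := k) M (pt a 0)).rTensor E.O z) =
              (mapk (k := k) M (pt a 0)).rTensor (E.O ⊗[k] E.O)
                ((CoalgebraStruct.comul (R := k) (A := E.O)).lTensor (M.obj ⟨0⟩) z) := by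
            intro z
            induction z with
            | zero => simp
            | tmul m o => rfl
            | add x y hx hy => rw [map_add, map_add, hx, hy, map_add, map_add]
          rw [← LinearMap.comp_apply, h1, LinearMap.comp_apply, h2, h3]
          exact congrArg _ (LinearMap.congr_fun c₀.coassoc m)
      counit_comp := by
        refine LinearMap.ext fun m => ?_
        change (CoalgebraStruct.counit (R := k) (A := E.O)).lTensor (M.obj a) (coA hM c₀ lin a m) = m ⊗ₜ[k] (1 : k)
        have hcm : ∀ (r : A.obj (op a)) (z : M.obj a ⊗[k] E.O),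
            (CoalgebraStruct.counit (R := k) (A := E.O)).lTensor (M.obj a) (r • z) =
              r • (CoalgebraStruct.counit (R := k) (A := E.O)).lTensor (M.obj a) z := by
          intro r z
          induction z with
          | zero => simp
          | tmul m o => rfl
          | add x y hx hy => rw [smul_add, map_add, hx, hy, map_add, smul_add]
        induction m using (hM (pt a 0)).induction with
        | zero => simp
        | add x y hx hy => rw [map_add, map_add, hx, hy, TensorProduct.add_tmul]
        | smul r m hm => rw [coA_smul, hcm, hm, TensorProduct.smul_tmul']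
        | map m =>
          rw [coA_pt hM c₀ lin hc]
          have h3 : ∀ z : M.obj ⟨0⟩ ⊗[k] E.O,
              (CoalgebraStruct.counit (R := k) (A := E.O)).lTensor (M.obj a)
                ((mapk (k := k) M (pt a 0)).rTensor E.O z) =
              (mapk (k := k) M (pt a 0)).rTensor k
                ((CoalgebraStruct.counit (R := k) (A := E.O)).lTensor (M.obj ⟨0⟩) z) := by
            intro z
            induction z with
            | zero => simp
            | tmul m o => rfl
            | add x y hx hy => rw [map_add, map_add, hx, hy, map_add, map_add]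
          rw [h3]
          exact congrArg _ (LinearMap.congr_fun c₀.counit_comp m) }
  lin a r m := (coA_smul hM c₀ lin a r m).trans (smul_tenO M a r _).symm
  nat φ m := coA_map hM c₀ lin hc φ m

theorem eco_zero : (eco hM c₀ lin hc).co ⟨0⟩ = c₀ := comod_ext fun m => coA_zero hM c₀ lin m

end Eco

end Groth.Agent.ResProp.EF.K322
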