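import Groth.Agent.ResProp.EF.K322.SHom
import Groth.Agent.ResProp.EF.X56.NAffine_784

/-!
# Pure objects from the chart

`dPM Y` : `a ↦ D⟨a⟩` as a cartesian presheaf of modules over `A`.  A `D⟨0⟩`-module structure on `M⟨0⟩` compatible on `⟨1⟩`
extends to all levels (`mdA`).
-/

set_option autoImplicit false
set_option linter.dupNamespace false
set_option linter.style.haveILetI false

open CategoryTheory Opposite TensorProduct

noncomputable section

namespace Groth.Agent.ResProp.EF.K322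

open K784.BC K784.PM K784.PM.PM K741.RP EF56 Grp Arch

universe w₃ w₂ w₁ w u

variable {A : NFᵒᵖ ⥤ CommRingCat.{u}}

theorem isBC_self {R S : Type u} [CommRing R] [CommRing S] (φ : R →+* S) : IsBC φ φ.toAddMonoidHom := by
  refine IsBC.of_lift (fun a m => map_mul φ a m) (fun Q _ _ g hg => ?_)
  refine ⟨LinearMap.toSpanSingleton S Q (g 1), fun m => ?_, fun g' hg' => ?_⟩
  · change φ m • g 1 = g m
    rw [← hg, smul_eq_mul, mul_one]
  · refine LinearMap.ext_ring ?_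
    have := hg' 1
    change g' (φ 1) = g 1 at this
    rw [map_one] at this
    rw [this]
    simp

/-- `a ↦ D⟨a⟩` -/
def dPM (Y : AffOver A) : PM.{u} A where
  obj a := Y.D.obj (op a)
  map φ := (rg Y.D φ).toAddMonoidHom
  map_smul {a b} φ r d := by
    change rg Y.D φ (r • d) = rg A φ r • rg Y.D φ d
    rw [Algebra.smul_def, Algebra.smul_def, map_mul]
    congr 1
    exact (NAffine784.jh_comm_apply Y.j φ r).symm
  map_id z d := by
    change rg Y.D (𝟙 z) d = d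
    rw [rg_id]
    rfl
  map_comp ψ φ d := by
    change rg Y.D (ψ ≫ φ) d = rg Y.D ψ (rg Y.D φ d)
    rw [rg_comp]
    rfl

theorem isBC_rgD (Y : AffOver A) {a b : NF} (φ : a ⟶ b) : IsBC (rg A φ) (rg Y.D φ).toAddMonoidHom :=
  IsBC.of_po (Y.cart φ) (fun (r : A.obj (op b)) (m : Y.D.obj (op b)) => Algebra.smul_def r m)
    (fun (r : A.obj (op a)) (m : Y.D.obj (op a)) => Algebra.smul_def r m) (isBC_self (rg Y.D φ))

theorem dPM_cart (Y : AffOver A) : (dPM Y).Cart := fun _ _ φ => isBC_rgD Y φ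

section Md

variable {Y : AffOver A} {M : PM.{u} A} (hM : M.Cart)
  (L₀ : Y.D.obj (op ⟨0⟩) →ₗ[A.obj (op ⟨0⟩)] (M.obj ⟨0⟩ →ₗ[A.obj (op ⟨0⟩)] M.obj ⟨0⟩))

/-- the compatibility of the action on the chart: it is enough to give one action on `⟨1⟩` -/
theorem compat_md (L₁ : Y.D.obj (op ⟨1⟩) →ₗ[A.obj (op ⟨1⟩)] (M.obj ⟨1⟩ →ₗ[A.obj (op ⟨1⟩)] M.obj ⟨1⟩))
    (h1 : ∀ (d : Y.D.obj (op ⟨0⟩)) (m : M.obj ⟨0⟩),
      L₁ (rg Y.D (pr ⟨0⟩) d) (M.map (pr ⟨0⟩) m) = M.map (pr ⟨0⟩) (L₀ d m))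
    (h2 : ∀ (d : Y.D.obj (op ⟨0⟩)) (m : M.obj ⟨0⟩),
      L₁ (rg Y.D (lst ⟨0⟩) d) (M.map (lst ⟨0⟩) m) = M.map (lst ⟨0⟩) (L₀ d m)) :
    Compat (E := dPM Y) (M := homPM M hM) (dPM_cart Y) L₀ :=
  compat_of (E := dPM Y) (M := homPM M hM) (dPM_cart Y) L₀ L₁ (fun d => eq_pl hM (pr ⟨0⟩) (L₀ d) (h1 d))
    fun d => eq_pl hM (lst ⟨0⟩) (L₀ d) (h2 d)

/-- the action map of `D⟨a⟩` on `M⟨a⟩` -/
def LA (a : NF) : Y.D.obj (op a) →ₗ[A.obj (op a)] (M.obj a →ₗ[A.obj (op a)] M.obj a) :=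
  fam (E := dPM Y) (M := homPM M hM) (dPM_cart Y) L₀ a

theorem LA_zero (d : Y.D.obj (op ⟨0⟩)) : LA hM L₀ ⟨0⟩ d = L₀ d :=
  LinearMap.congr_fun (fam_zero (E := dPM Y) (M := homPM M hM) (dPM_cart Y) L₀) d

variable (hc : Compat (E := dPM Y) (M := homPM M hM) (dPM_cart Y) L₀)

include hc

theorem LA_map {a b : NF} (φ : a ⟶ b) (d : Y.D.obj (op b)) :
    LA hM L₀ a (rg Y.D φ d) = pl hM φ (LA hM L₀ b d) := fam_map (E := dPM Y) (M := homPM M hM) (dPM_cart Y) hc φ d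

theorem LA_map_apply {a b : NF} (φ : a ⟶ b) (d : Y.D.obj (op b)) (m : M.obj b) :
    LA hM L₀ a (rg Y.D φ d) (M.map φ m) = M.map φ (LA hM L₀ b d m) := by
  rw [LA_map hM L₀ hc, pl_apply]

theorem LA_pt (a : NF) (i : Fin (a.n + 1)) (d : Y.D.obj (op ⟨0⟩)) (m : M.obj ⟨0⟩) :
    LA hM L₀ a (rg Y.D (pt a i) d) (M.map (pt a i) m) = M.map (pt a i) (L₀ d m) := by
  rw [LA_map_apply hM L₀ hc, LA_zero]

theorem LA_one (h1 : ∀ m, L₀ (1 : Y.D.obj (op ⟨0⟩)) m = m) (a : NF) (m : M.obj a) : LA hM L₀ a 1 m = m := by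
  have : LA hM L₀ a 1 = LinearMap.id := by
    refine (hM (pt a 0)).hom_ext fun m => ?_
    have h2 := LA_pt hM L₀ hc a 0 1 m
    rw [map_one] at h2
    rw [h2, h1]
    rfl
  rw [this]
  rfl

theorem LA_mul (h2 : ∀ (d d' : Y.D.obj (op ⟨0⟩)) m, L₀ (d * d' : Y.D.obj (op ⟨0⟩)) m = L₀ d (L₀ d' m)) (a : NF)
    (d d' : Y.D.obj (op a)) (m : M.obj a) : LA hM L₀ a (d * d') m = LA hM L₀ a d (LA hM L₀ a d' m) := by
  have hd := isBC_rgD Y (pt a 0)
  induction d using hd.induction with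
  | zero => simp
  | add x y hx hy => rw [add_mul, map_add, map_add, LinearMap.add_apply, LinearMap.add_apply, hx, hy]
  | smul r d h => rw [smul_mul_assoc, _root_.map_smul, _root_.map_smul, LinearMap.smul_apply, LinearMap.smul_apply, h]
  | map d =>
    induction d' using hd.induction with
    | zero => simp
    | add x y hx hy => rw [mul_add, map_add, map_add, LinearMap.add_apply, LinearMap.add_apply, map_add, hx, hy]
    | smul r d' h =>
      rw [mul_smul_comm, _root_.map_smul, _root_.map_smul, LinearMap.smul_apply, LinearMap.smul_apply, _root_.map_smul, h]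
    | map d' =>
      induction m using (hM (pt a 0)).induction with
      | zero => simp
      | add x y hx hy => rw [map_add, map_add, map_add, hx, hy]
      | smul r m h => rw [_root_.map_smul, _root_.map_smul, _root_.map_smul, h]
      | map m =>
        have e1 : (rg Y.D (pt a 0)).toAddMonoidHom d * (rg Y.D (pt a 0)).toAddMonoidHom d' =
            rg Y.D (pt a 0) (d * d') := (map_mul (rg Y.D (pt a 0)) d d').symm
        rw [e1, LA_pt hM L₀ hc, h2]
        change _ = LA hM L₀ a (rg Y.D (pt a 0) d) (LA hM L₀ a (rg Y.D (pt a 0) d') (M.map (pt a 0) m))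
        rw [LA_pt hM L₀ hc, LA_pt hM L₀ hc]

/-- the module structure on level `a` -/
@[reducible] def mdA (h1 : ∀ m, L₀ (1 : Y.D.obj (op ⟨0⟩)) m = m)
    (h2 : ∀ (d d' : Y.D.obj (op ⟨0⟩)) m, L₀ (d * d' : Y.D.obj (op ⟨0⟩)) m = L₀ d (L₀ d' m)) (a : NF) :
    Module (Y.D.obj (op a)) (M.obj a) where
  smul d m := LA hM L₀ a d m
  one_smul m := LA_one hM L₀ hc h1 a m
  mul_smul d d' m := LA_mul hM L₀ hc h2 a d d' m
  smul_zero d := map_zero (LA hM L₀ a d)
  smul_add d m m' := map_add (LA hM L₀ a d) m m'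
  add_smul d d' m := by
    change LA hM L₀ a (d + d') m = LA hM L₀ a d m + LA hM L₀ a d' m
    rw [map_add]
    rfl
  zero_smul m := by
    change LA hM L₀ a 0 m = 0
    rw [map_zero]
    rfl

theorem mdA_tower (h1 : ∀ m, L₀ (1 : Y.D.obj (op ⟨0⟩)) m = m)
    (h2 : ∀ (d d' : Y.D.obj (op ⟨0⟩)) m, L₀ (d * d' : Y.D.obj (op ⟨0⟩)) m = L₀ d (L₀ d' m)) (a : NF)
    (r : A.obj (op a)) (m : M.obj a) :
    (mdA hM L₀ hc h1 h2 a).smul (algebraMap (A.obj (op a)) (Y.D.obj (op a)) r) m = r • m := by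
  change LA hM L₀ a (algebraMap (A.obj (op a)) (Y.D.obj (op a)) r) m = r • m
  rw [Algebra.algebraMap_eq_smul_one, _root_.map_smul, LinearMap.smul_apply, LA_one hM L₀ hc h1]

end Md

section Hopf

variable {k : Type u} [CommRing k] [GRF k A] {Y : AffOver A} {M : PM.{u} A} (hM : M.Cart)
  (L₀ : Y.D.obj (op ⟨0⟩) →ₗ[A.obj (op ⟨0⟩)] (M.obj ⟨0⟩ →ₗ[A.obj (op ⟨0⟩)] M.obj ⟨0⟩))

theorem algk_smul (a : NF) (r : k) (d : Y.D.obj (op a)) :
    r • d = (algebraMap k (A.obj (op a)) r) • d := by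
  rw [Algebra.smul_def, Algebra.smul_def]
  rfl

/-- a bilinear map over `A⟨a⟩` as a bilinear map over `k` -/
def bilk {a : NF} (L : Y.D.obj (op a) →ₗ[A.obj (op a)] (M.obj a →ₗ[A.obj (op a)] M.obj a)) :
    Y.D.obj (op a) →ₗ[k] M.obj a →ₗ[k] M.obj a where
  toFun d := (L d).restrictScalars k
  map_add' d d' := by
    refine LinearMap.ext fun m => ?_
    change L (d + d') m = L d m + L d' m
    rw [map_add]
    rfl
  map_smul' r d := by
    refine LinearMap.ext fun m => ?_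
    change L (r • d) m = r • L d m
    rw [algk_smul, _root_.map_smul, LinearMap.smul_apply, pmk_smul]

/-- the semilinear multiplication `(D ⊗ O) × (M ⊗ O) → M ⊗ O` -/
def mulO {a : NF} (O : Type u) [CommRing O] [Algebra k O]
    (L : Y.D.obj (op a) →ₗ[A.obj (op a)] (M.obj a →ₗ[A.obj (op a)] M.obj a)) :
    (Y.D.obj (op a) ⊗[k] O) →ₗ[k] (M.obj a ⊗[k] O) →ₗ[k] M.obj a ⊗[k] O :=
  TensorProduct.map₂ (bilk (k := k) L) (LinearMap.mul k O)

section

variable {a : NF} {O : Type u} [CommRing O] [Algebra k O]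
  (L : Y.D.obj (op a) →ₗ[A.obj (op a)] (M.obj a →ₗ[A.obj (op a)] M.obj a))

theorem mulO_tmul (d : Y.D.obj (op a)) (o : O) (m : M.obj a) (o' : O) :
    mulO (k := k) O L (d ⊗ₜ o) (m ⊗ₜ o') = (L d m) ⊗ₜ (o * o') := rfl

theorem mulO_smul_left (r : A.obj (op a)) (u : Y.D.obj (op a) ⊗[k] O) (v : M.obj a ⊗[k] O) :
    mulO (k := k) O L (r • u) v = r • mulO (k := k) O L u v := by
  induction u with
  | zero => simp
  | add x y hx hy => rw [smul_add, map_add, LinearMap.add_apply, hx, hy, map_add, LinearMap.add_apply, smul_add]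
  | tmul d o =>
    induction v with
    | zero => simp
    | add x y hx hy => rw [map_add, hx, hy, map_add, smul_add]
    | tmul m o' =>
      rw [TensorProduct.smul_tmul', mulO_tmul, mulO_tmul, _root_.map_smul, LinearMap.smul_apply,
        TensorProduct.smul_tmul']

theorem mulO_smul_right (r : A.obj (op a)) (u : Y.D.obj (op a) ⊗[k] O) (v : M.obj a ⊗[k] O) :
    mulO (k := k) O L u (r • v) = r • mulO (k := k) O L u v := by
  induction u with
  | zero => simp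
  | add x y hx hy => rw [map_add, LinearMap.add_apply, hx, hy, LinearMap.add_apply, smul_add]
  | tmul d o =>
    induction v with
    | zero => simp
    | add x y hx hy => rw [smul_add, map_add, hx, hy, map_add, smul_add]
    | tmul m o' =>
      rw [TensorProduct.smul_tmul', mulO_tmul, mulO_tmul, _root_.map_smul, TensorProduct.smul_tmul']

end

theorem mulO_map {O : Type u} [CommRing O] [Algebra k O] {a b : NF} (φ : a ⟶ b)
    (La : Y.D.obj (op a) →ₗ[A.obj (op a)] (M.obj a →ₗ[A.obj (op a)] M.obj a))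
    (Lb : Y.D.obj (op b) →ₗ[A.obj (op b)] (M.obj b →ₗ[A.obj (op b)] M.obj b))
    (h : ∀ d m, La (rg Y.D φ d) (M.map φ m) = M.map φ (Lb d m))
    (u : Y.D.obj (op b) ⊗[k] O) (v : M.obj b ⊗[k] O) :
    mulO (k := k) O La ((Y.rk (k := k) φ).toLinearMap.rTensor O u) ((mapk (k := k) M φ).rTensor O v) =
      (mapk (k := k) M φ).rTensor O (mulO (k := k) O Lb u v) := by
  induction u with
  | zero => simp
  | add x y hx hy => rw [map_add, map_add, LinearMap.add_apply, hx, hy, map_add, LinearMap.add_apply, map_add]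
  | tmul d o =>
    induction v with
    | zero => simp
    | add x y hx hy => rw [map_add, map_add, hx, hy, map_add, map_add]
    | tmul m o' =>
      rw [LinearMap.rTensor_tmul, LinearMap.rTensor_tmul, mulO_tmul, mulO_tmul, LinearMap.rTensor_tmul]
      exact congrArg (· ⊗ₜ[k] (o * o')) (h d m)

theorem rho_smul {H : Gp k} {a : NF} (ρ : K83.CoAlg k H.O (Y.D.obj (op a)))
    (hρ : ∀ r : A.obj (op a), ρ.ρ (algebraMap (A.obj (op a)) (Y.D.obj (op a)) r) =
      algebraMap (A.obj (op a)) (Y.D.obj (op a)) r ⊗ₜ 1) (r : A.obj (op a)) (d : Y.D.obj (op a)) :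
    ρ.ρ (r • d) = r • ρ.ρ d := by
  rw [Algebra.smul_def, map_mul, hρ]
  induction ρ.ρ d with
  | zero => simp
  | add x y hx hy => rw [mul_add, hx, hy, smul_add]
  | tmul d o =>
    rw [Algebra.TensorProduct.tmul_mul_tmul, one_mul, TensorProduct.smul_tmul', Algebra.smul_def]

/-- the Hopf module condition from the chart -/
theorem hopf_of {H : Gp k} (ρ : ∀ a : NF, K83.CoAlg k H.O (Y.D.obj (op a)))
    (hnat : ∀ {a b : NF} (φ : a ⟶ b) (z : Y.D.obj (op b)),
      (ρ a).ρ (rg Y.D φ z) = (Y.rk (k := k) φ).toLinearMap.rTensor H.O ((ρ b).ρ z))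
    (hlin : ∀ (a : NF) (r : A.obj (op a)),
      (ρ a).ρ (algebraMap (A.obj (op a)) (Y.D.obj (op a)) r) = algebraMap (A.obj (op a)) (Y.D.obj (op a)) r ⊗ₜ 1)
    (e : ECo H M) (hc : Compat (E := dPM Y) (M := homPM M hM) (dPM_cart Y) L₀)
    (h : ∀ (d : Y.D.obj (op ⟨0⟩)) (m : M.obj ⟨0⟩),
      (e.co ⟨0⟩).coact (L₀ d m) = mulO (k := k) H.O L₀ ((ρ ⟨0⟩).ρ d) ((e.co ⟨0⟩).coact m))
    (a : NF) (d : Y.D.obj (op a)) (m : M.obj a) :
    (e.co a).coact (LA hM L₀ a d m) = mulO (k := k) H.O (LA hM L₀ a) ((ρ a).ρ d) ((e.co a).coact m) := by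
  have hd := isBC_rgD Y (pt a 0)
  induction d using hd.induction with
  | zero => simp
  | add x y hx hy =>
    rw [map_add, LinearMap.add_apply, map_add, hx, hy, map_add (ρ a).ρ, map_add (mulO (k := k) H.O (LA hM L₀ a)),
      LinearMap.add_apply]
  | smul r d h =>
    rw [_root_.map_smul, LinearMap.smul_apply, eco_smul, h, rho_smul (ρ a) (hlin a), mulO_smul_left]
  | map d =>
    induction m using (hM (pt a 0)).induction with
    | zero => simp
    | add x y hx hy => rw [map_add, map_add, hx, hy, map_add, map_add]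
    | smul r m h => rw [_root_.map_smul, eco_smul, h, eco_smul, mulO_smul_right]
    | map m =>
      change (e.co a).coact (LA hM L₀ a (rg Y.D (pt a 0) d) (M.map (pt a 0) m)) =
        mulO (k := k) H.O (LA hM L₀ a) ((ρ a).ρ (rg Y.D (pt a 0) d)) ((e.co a).coact (M.map (pt a 0) m))
      rw [LA_pt hM L₀ hc, e.nat, e.nat, hnat, h]
      exact (mulO_map (pt a 0) (LA hM L₀ a) L₀ (fun d m => LA_pt hM L₀ hc a 0 d m) _ _).symm

end Hopf

section Pure

variable {k : Type u} [CommRing k] [GRF k A] {x : PrimeSpectrum (A.obj (op ⟨0⟩))} (c : CoverDatum k A x) {E : Gp k}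
  (ι : c.H.O →ₐc[k] E.O) {P : Type u} [CommRing P] [Algebra (A.obj (op ⟨0⟩)) P]
  (π : P →ₐ[A.obj (op ⟨0⟩)] c.Y.D.obj (op ⟨0⟩)) (X : SObj k A E P)
  (L₀ : c.Y.D.obj (op ⟨0⟩) →ₗ[A.obj (op ⟨0⟩)] (X.M.obj ⟨0⟩ →ₗ[A.obj (op ⟨0⟩)] X.M.obj ⟨0⟩))
  (hc : Compat (E := dPM c.Y) (M := homPM X.M X.cart) (dPM_cart c.Y) L₀)
  (h1 : ∀ m, L₀ (1 : c.Y.D.obj (op ⟨0⟩)) m = m)
  (h2 : ∀ (d d' : c.Y.D.obj (op ⟨0⟩)) m, L₀ (d * d' : c.Y.D.obj (op ⟨0⟩)) m = L₀ d (L₀ d' m))
  (act : ∀ (q : P) (m : X.M.obj ⟨0⟩), q • m = L₀ (π q) m)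
  (eH : ECo c.H X.M)
  (through : ∀ m : X.M.obj ⟨0⟩, (X.e.co ⟨0⟩).coact m =
    (ι : c.H.O →ₐ[k] E.O).toLinearMap.lTensor (X.M.obj ⟨0⟩) ((eH.co ⟨0⟩).coact m))
  (hopf : ∀ (d : c.Y.D.obj (op ⟨0⟩)) (m : X.M.obj ⟨0⟩),
    (eH.co ⟨0⟩).coact (L₀ d m) = mulO (k := k) c.H.O L₀ ((c.ρ ⟨0⟩).ρ d) ((eH.co ⟨0⟩).coact m))

include through in
theorem through_of (a : NF) (m : X.M.obj a) : (X.e.co a).coact m =
    (ι : c.H.O →ₐ[k] E.O).toLinearMap.lTensor (X.M.obj a) ((eH.co a).coact m) := by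
  have hsm : ∀ (r : A.obj (op a)) (z : X.M.obj a ⊗[k] c.H.O),
      (ι : c.H.O →ₐ[k] E.O).toLinearMap.lTensor (X.M.obj a) (r • z) =
        r • (ι : c.H.O →ₐ[k] E.O).toLinearMap.lTensor (X.M.obj a) z := by
    intro r z
    induction z with
    | zero => simp
    | tmul m o => rfl
    | add x y hx hy => rw [smul_add, map_add, hx, hy, map_add, smul_add]
  have hmap : ∀ z : X.M.obj ⟨0⟩ ⊗[k] c.H.O,
      (mapk (k := k) X.M (pt a 0)).rTensor E.O
        ((ι : c.H.O →ₐ[k] E.O).toLinearMap.lTensor (X.M.obj ⟨0⟩) z) =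
      (ι : c.H.O →ₐ[k] E.O).toLinearMap.lTensor (X.M.obj a) ((mapk (k := k) X.M (pt a 0)).rTensor c.H.O z) := by
    intro z
    induction z with
    | zero => simp
    | tmul m o => rfl
    | add x y hx hy => rw [map_add, map_add, hx, hy, map_add, map_add]
  induction m using (X.cart (pt a 0)).induction with
  | zero => simp
  | add x y hx hy => rw [map_add, hx, hy, map_add, map_add]
  | smul r m h => rw [eco_smul, h, eco_smul, hsm]
  | map m => rw [X.e.nat, eH.nat, through, hmap]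

/-- **a pure object from the chart** -/
def pureOf : Pure c ι π X where
  md a := mdA X.cart L₀ hc h1 h2 a
  tower a r m := mdA_tower X.cart L₀ hc h1 h2 a r m
  map_smul {a b} φ d m := (LA_map_apply X.cart L₀ hc φ d m).symm
  act q m := (act q m).trans (by
    change L₀ (π q) m = LA X.cart L₀ ⟨0⟩ (π q) m
    rw [LA_zero])
  coH a := eH.co a
  through a m := through_of c ι X eH through a m
  hopf a d m := hopf_of X.cart L₀ c.ρ (fun φ z => c.ρ_nat φ z) (fun a r => c.ρ_lin a r) eH hc hopf a d m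

end Pure

end Groth.Agent.ResProp.EF.K322
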