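import Groth.Agent.ResProp.EF.K322.Ext

/-!
# Morphisms of `SObj` from the chart, uniqueness of `ECo`
-/

set_option autoImplicit false
set_option linter.dupNamespace false

open CategoryTheory Opposite TensorProduct

noncomputable section

namespace Groth.Agent.ResProp.EF.K322

open K784.BC K784.PM K784.PM.PM K741.RP EF56 Grp Arch

universe w₃ w₂ w₁ w u

variable {k : Type u} [CommRing k] {A : NFᵒᵖ ⥤ CommRingCat.{u}} [GRF k A]

section Eco

variable {E : Gp k} {M : PM.{u} A}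

/-- compatibility of an `E`-coaction on the chart with the `Γ`-coaction: it is enough to give one map on `⟨1⟩` -/
theorem compat_eco (hM : M.Cart) (c₀ : HopfRep.Comod k E.O (M.obj ⟨0⟩))
    (lin : ∀ (r : A.obj (op ⟨0⟩)) (m : M.obj ⟨0⟩),
      c₀.coact (r • m) = (mulk (k := k) M ⟨0⟩ r).rTensor E.O (c₀.coact m))
    (c₁ : M.obj ⟨1⟩ →+ M.obj ⟨1⟩ ⊗[k] E.O) (h1 : ∀ (r : A.obj (op ⟨1⟩)) m, c₁ (r • m) = r • c₁ m)
    (h2 : ∀ m, c₁ (M.map (pr ⟨0⟩) m) = (mapk (k := k) M (pr ⟨0⟩)).rTensor E.O (c₀.coact m))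
    (h3 : ∀ m, c₁ (M.map (lst ⟨0⟩) m) = (mapk (k := k) M (lst ⟨0⟩)).rTensor E.O (c₀.coact m)) :
    Compat (M := tenO k M E.O) hM (lin₀ c₀ lin) :=
  compat_of (M := tenO k M E.O) hM (lin₀ c₀ lin) { c₁ with map_smul' := h1 } h2 h3

/-- the linear form of the coaction of an `ECo` -/
def ecoL (e : ECo E M) (a : NF) : M.obj a →ₗ[A.obj (op a)] (tenO k M E.O).obj a := lin₀ (e.co a) (e.lin a)

theorem ecoL_apply (e : ECo E M) (a : NF) (m : M.obj a) : ecoL e a m = (e.co a).coact m := rfl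

theorem ecoL_map (e : ECo E M) {a b : NF} (φ : a ⟶ b) (m : M.obj b) :
    ecoL e a (M.map φ m) = (tenO k M E.O).map φ (ecoL e b m) := e.nat φ m

theorem eco_smul (e : ECo E M) (a : NF) (r : A.obj (op a)) (m : M.obj a) :
    (e.co a).coact (r • m) = r • (e.co a).coact m := (ecoL e a).map_smul r m

/-- an `ECo` is compatible -/
theorem compat_of_eco (hM : M.Cart) (e : ECo E M) :
    Compat (M := tenO k M E.O) hM (lin₀ (e.co ⟨0⟩) (e.lin ⟨0⟩)) :=
  compat_of_nat (M := tenO k M E.O) hM (ecoL e) fun φ m => ecoL_map e φ m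

/-- an `ECo` is determined by the chart -/
theorem eco_unique (hM : M.Cart) {e e' : ECo E M} (h : e.co ⟨0⟩ = e'.co ⟨0⟩) : e = e' := by
  have key : ∀ a, ecoL e a = ecoL e' a := fun a => by
    refine ext_pt hM 0 fun m => ?_
    rw [ecoL_map, ecoL_map, ecoL_apply, ecoL_apply, h]
  have : e.co = e'.co := funext fun a => comod_ext fun m => LinearMap.congr_fun (key a) m
  cases e
  cases e'
  congr

end Eco

section Hom

variable {E : Gp k} {P : Type u} [CommRing P] [Algebra (A.obj (op ⟨0⟩)) P]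

/-- equivariance on the chart gives equivariance everywhere -/
theorem equi_of {M M' : PM.{u} A} (hM : M.Cart) (e : ECo E M) (e' : ECo E M')
    (f : ∀ a : NF, M.obj a →ₗ[A.obj (op a)] M'.obj a)
    (hf : ∀ {a b : NF} (φ : a ⟶ b) (m : M.obj b), f a (M.map φ m) = M'.map φ (f b m))
    (h : ∀ m, (e'.co ⟨0⟩).coact (f ⟨0⟩ m) = ((f ⟨0⟩).restrictScalars k).rTensor E.O ((e.co ⟨0⟩).coact m))
    (a : NF) (m : M.obj a) :
    (e'.co a).coact (f a m) = ((f a).restrictScalars k).rTensor E.O ((e.co a).coact m) := by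
  have hsm : ∀ (r : A.obj (op a)) (z : M.obj a ⊗[k] E.O),
      ((f a).restrictScalars k).rTensor E.O (r • z) = r • ((f a).restrictScalars k).rTensor E.O z :=
    fun r z => (rT (k := k) E.O (f a)).map_smul r z
  induction m using (hM (pt a 0)).induction with
  | zero => simp
  | add x y hx hy => rw [map_add, map_add, map_add, hx, hy, map_add]
  | smul r m hm => rw [_root_.map_smul, eco_smul, eco_smul, hsm, hm]
  | map m =>
    rw [hf, e'.nat, e.nat, h]
    have h1 : (mapk (k := k) M' (pt a 0)).rTensor E.O ∘ₗ ((f ⟨0⟩).restrictScalars k).rTensor E.O =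
        ((f a).restrictScalars k).rTensor E.O ∘ₗ (mapk (k := k) M (pt a 0)).rTensor E.O := by
      rw [← LinearMap.rTensor_comp, ← LinearMap.rTensor_comp]
      congr 1
      exact LinearMap.ext fun m => (hf (pt a 0) m).symm
    exact LinearMap.congr_fun h1 _

variable {X X' : SObj k A E P} (f₀ : X.M.obj ⟨0⟩ →ₗ[A.obj (op ⟨0⟩)] X'.M.obj ⟨0⟩)
  (hc : Compat (M := X'.M) X.cart f₀)
  (equi : ∀ m, (X'.e.co ⟨0⟩).coact (f₀ m) = (f₀.restrictScalars k).rTensor E.O ((X.e.co ⟨0⟩).coact m))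
  (hpl : ∀ (q : P) (m : X.M.obj ⟨0⟩), f₀ (q • m) = q • f₀ m)

/-- **a morphism from the chart** -/
def sHom : X.Hom X' where
  f := fam (M := X'.M) X.cart f₀
  nat φ m := fam_map (M := X'.M) X.cart hc φ m
  equi a m := equi_of X.cart X.e X'.e (fam (M := X'.M) X.cart f₀) (fun φ m => fam_map (M := X'.M) X.cart hc φ m)
    (fun m => by rw [fam_zero]; exact equi m) a m
  pl q m := by rw [fam_zero]; exact hpl q m

theorem sHom_zero : (sHom f₀ hc equi hpl).f ⟨0⟩ = f₀ := fam_zero (M := X'.M) X.cart f₀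

/-- a morphism of `SObj` is determined by the chart -/
theorem hom_ext' {g g' : X.Hom X'} (h : g.f ⟨0⟩ = g'.f ⟨0⟩) : g = g' := by
  have key : g.f = g'.f := funext fun a => ext_pt X.cart 0 fun m => by rw [g.nat, g'.nat, h]
  cases g
  cases g'
  congr

theorem hom_compat (g : X.Hom X') : Compat (M := X'.M) X.cart (g.f ⟨0⟩) :=
  compat_of_nat (M := X'.M) X.cart g.f fun φ m => g.nat φ m

end Hom

end Groth.Agent.ResProp.EF.K322
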